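import Mathlib
import Groth.Prelude.Def_ModSite

/-!
# Sheaves of modules on a chaotic site

For the chaotic topology every presheaf of modules is a sheaf, so the evaluation functors are
exact and preserve all colimits.  We introduce the base change natural transformation `β` and show
that it is an isomorphism on modules admitting a global presentation.
-/

set_option autoImplicit false
universe u
open CategoryTheory CategoryTheory.Limits Opposite
open ChangeOfRings

namespace Groth.Agent.Lib.Helper2.Chaotic

section NatTransLemmas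

variable {𝒞 𝒟 : Type*} [Category 𝒞] [Category 𝒟] {A B : 𝒞 ⥤ 𝒟} (α : A ⟶ B)

lemma isIso_app_of_isColimit {K : Type*} [Category K] {D : K ⥤ 𝒞} {c : Cocone D}
    (hc : IsColimit c) [PreservesColimit D A] [PreservesColimit D B]
    (h : ∀ k, IsIso (α.app (D.obj k))) : IsIso (α.app c.pt) := by
  let hA := isColimitOfPreserves A hc
  let hB := isColimitOfPreserves B hc
  let e : D ⋙ A ≅ D ⋙ B := NatIso.ofComponents (fun k => asIso (α.app (D.obj k)))
    (fun f => by simp)
  have : α.app c.pt = (IsColimit.coconePointsIsoOfNatIso hA hB e).hom := by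
    refine hA.hom_ext (fun k => ?_)
    rw [IsColimit.comp_coconePointsIsoOfNatIso_hom]
    simp [e]
  rw [this]
  infer_instance

lemma isIso_app_of_isLimit {K : Type*} [Category K] {D : K ⥤ 𝒞} {c : Cone D}
    (hc : IsLimit c) [PreservesLimit D A] [PreservesLimit D B]
    (h : ∀ k, IsIso (α.app (D.obj k))) : IsIso (α.app c.pt) := by
  let hA := isLimitOfPreserves A hc
  let hB := isLimitOfPreserves B hc
  let e : D ⋙ A ≅ D ⋙ B := NatIso.ofComponents (fun k => asIso (α.app (D.obj k)))
    (fun f => by simp)
  have : α.app c.pt = (IsLimit.conePointsIsoOfNatIso hA hB e).hom := by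
    refine hB.hom_ext (fun k => ?_)
    rw [IsLimit.conePointsIsoOfNatIso_hom_comp]
    simp [e]
  rw [this]
  infer_instance

end NatTransLemmas

section Forget

variable {D : Type u} [SmallCategory D] {J : GrothendieckTopology D}

lemma forget_isEquivalence (hJ : J = ⊥) (R : Sheaf J RingCat.{u}) :
    (SheafOfModules.forget.{u} R).IsEquivalence := by
  subst hJ
  have : (SheafOfModules.forget.{u} R).EssSurj :=
    ⟨fun P => ⟨⟨P, Presheaf.isSheaf_bot _⟩, ⟨Iso.refl _⟩⟩⟩
  exact {}

lemma evaluation_preservesColimits (hJ : J = ⊥) (R : Sheaf J RingCat.{u}) (X : Dᵒᵖ) :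
    PreservesColimitsOfSize.{u, u} (SheafOfModules.evaluation.{u} R X) := by
  have := forget_isEquivalence hJ R
  unfold SheafOfModules.evaluation
  infer_instance

lemma evaluation_preservesLimits (R : Sheaf J RingCat.{u}) (X : Dᵒᵖ) :
    PreservesLimitsOfSize.{u, u} (SheafOfModules.evaluation.{u} R X) := by
  unfold SheafOfModules.evaluation
  infer_instance

lemma epi_of_surjective (R : Sheaf J RingCat.{u}) {M N : SheafOfModules.{u} R}
    (f : M ⟶ N) (h : ∀ X : Dᵒᵖ, Function.Surjective (f.val.app X)) : Epi f := by
  have : Epi ((SheafOfModules.forget.{u} R).map f) :=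
    PresheafOfModules.epi_of_surjective (fun X => h X)
  exact (SheafOfModules.forget.{u} R).epi_of_epi_map this

end Forget

section Beta

variable {D : Type u} [SmallCategory D] {J : GrothendieckTopology D}
  (O : Sheaf J CommRingCat.{u})

/-- The ring map `O(Z) → O(Y)` attached to `h : Y ⟶ Z`. -/
abbrev rmap {Y Z : D} (h : Y ⟶ Z) : O.obj.obj (op Z) →+* O.obj.obj (op Y) :=
  (O.obj.map h.op).hom

/-- Evaluation at `Y`. -/
noncomputable abbrev ev (Y : D) : ModSite.Mod O ⥤ ModuleCat.{u} (O.obj.obj (op Y)) :=
  SheafOfModules.evaluation.{u} (ModSite.ringSh O) (op Y)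

/-- `M ↦ O(Y) ⊗_{O(Z)} M(Z)`. -/
noncomputable abbrev bc {Y Z : D} (h : Y ⟶ Z) :
    ModSite.Mod O ⥤ ModuleCat.{u} (O.obj.obj (op Y)) :=
  ev O Z ⋙ ModuleCat.extendScalars.{u, u, u} (rmap O h)

/-- The base change map `O(Y) ⊗_{O(Z)} M(Z) → M(Y)`. -/
noncomputable def β {Y Z : D} (h : Y ⟶ Z) : bc O h ⟶ ev O Y where
  app M := ((ModuleCat.extendRestrictScalarsAdj.{u, u, u} (rmap O h)).homEquiv
    (M.val.obj (op Z) : ModuleCat.{u} (O.obj.obj (op Z)))
    (M.val.obj (op Y) : ModuleCat.{u} (O.obj.obj (op Y)))).symm (M.val.map h.op)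
  naturality M N f := by
    have h1 := (ModuleCat.extendRestrictScalarsAdj.{u, u, u} (rmap O h)).homEquiv_naturality_left_symm
      (f.val.app (op Z)) (N.val.map h.op)
    have h2 := (ModuleCat.extendRestrictScalarsAdj.{u, u, u}
      (rmap O h)).homEquiv_naturality_right_symm (M.val.map h.op) (f.val.app (op Y))
    have h3 := PresheafOfModules.Hom.naturality f.val h.op
    exact h1.symm.trans ((congrArg _ h3.symm).trans h2)

end Beta

section Algebra

set_option backward.isDefEq.respectTransparency false in
lemma adj_symm_tmul {A B : Type u} [CommRing A] [CommRing B] (f : A →+* B)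
    (M : ModuleCat.{u} A) (N : ModuleCat.{u} B) (g : M ⟶ (ModuleCat.restrictScalars f).obj N)
    (s : B) (m : M) :
    ((ModuleCat.extendRestrictScalarsAdj.{u, u, u} f).homEquiv M N).symm g (s ⊗ₜ[A,f] m) =
      s • (show N from g m) := by
  rw [Adjunction.homEquiv_counit]
  rw [ModuleCat.comp_apply, ModuleCat.ExtendScalars.map_tmul]
  have : (s ⊗ₜ[A,f] (g m) : (ModuleCat.extendScalars f).obj ((ModuleCat.restrictScalars f).obj N)) =
      s • ((1 : B) ⊗ₜ[A,f] (g m) :
        (ModuleCat.extendScalars f).obj ((ModuleCat.restrictScalars f).obj N)) := by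
    rw [ModuleCat.ExtendScalars.smul_tmul, mul_one]
  rw [this, map_smul]
  congr 1
  exact ModuleCat.extendRestrictScalarsAdj_counit_app_apply_one_tmul f N (g m)

set_option backward.isDefEq.respectTransparency false in
lemma bijective_adj_unit {A B : Type u} [CommRing A] [CommRing B] (f : A →+* B)
    (g : ModuleCat.of A A ⟶ (ModuleCat.restrictScalars f).obj (ModuleCat.of B B))
    (hg : ∀ a : A, g a = f a) :
    Function.Bijective (((ModuleCat.extendRestrictScalarsAdj.{u, u, u} f).homEquiv
      (ModuleCat.of A A) (ModuleCat.of B B)).symm g) := by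
  set φ := ((ModuleCat.extendRestrictScalarsAdj.{u, u, u} f).homEquiv
      (ModuleCat.of A A) (ModuleCat.of B B)).symm g with hφ
  let _ : Module A B := Module.compHom B f
  have hφ' : ∀ (b : B) (a : A), (show B from φ (b ⊗ₜ[A,f] a)) = b * f a := by
    intro b a
    rw [hφ]; erw [adj_symm_tmul]; rw [← hg]; rfl
  have key : ∀ z : TensorProduct A B A,
      z = ((show B from φ z) ⊗ₜ[A] (1 : A)) := by
    intro z
    induction z using TensorProduct.induction_on with
    | zero => erw [map_zero]; exact (TensorProduct.zero_tmul _ _).symm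
    | tmul b a =>
      rw [hφ' b a]
      have h2 : (b * f a : B) = a • b := mul_comm _ _
      rw [h2, TensorProduct.smul_tmul, smul_eq_mul, mul_one]
    | add x y hx hy =>
      erw [map_add]
      erw [TensorProduct.add_tmul]
      exact congrArg₂ _ hx hy
  constructor
  · intro x y hxy
    have hx := key x
    have hy := key y
    rw [hx, hy]
    exact congrArg (fun t : B => t ⊗ₜ[A] (1 : A)) hxy
  · intro t
    refine ⟨t ⊗ₜ[A,f] (1 : A), ?_⟩
    have := hφ' t 1
    rw [map_one, mul_one] at this
    exact this

end Algebra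

section Beta2

variable {D : Type u} [SmallCategory D] {J : GrothendieckTopology D}
  (O : Sheaf J CommRingCat.{u})

lemma isIso_β_unit {Y Z : D} (h : Y ⟶ Z) :
    IsIso ((β O h).app (SheafOfModules.unit (ModSite.ringSh O))) := by
  rw [ConcreteCategory.isIso_iff_bijective]
  exact bijective_adj_unit (rmap O h) _ (fun a => rfl)

lemma ev_preservesColimits (hJ : J = ⊥) (Y : D) :
    PreservesColimitsOfSize.{u, u} (ev O Y) :=
  evaluation_preservesColimits hJ (ModSite.ringSh O) (op Y)

lemma bc_preservesColimits (hJ : J = ⊥) {Y Z : D} (h : Y ⟶ Z) :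
    PreservesColimitsOfSize.{u, u} (bc O h) := by
  have := ev_preservesColimits O hJ Z
  have : PreservesColimitsOfSize.{u, u} (ModuleCat.extendScalars.{u, u, u} (rmap O h)) :=
    (ModuleCat.extendRestrictScalarsAdj.{u, u, u} (rmap O h)).leftAdjoint_preservesColimits
  exact comp_preservesColimits _ _

lemma isIso_β_free (hJ : J = ⊥) {Y Z : D} (h : Y ⟶ Z) (I : Type u) :
    IsIso ((β O h).app (SheafOfModules.free (R := ModSite.ringSh O) I)) := by
  have := ev_preservesColimits O hJ Y
  have := bc_preservesColimits O hJ h
  exact isIso_app_of_isColimit (β O h) (SheafOfModules.isColimitFreeCofan (R := ModSite.ringSh O) I)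
    (fun _ => isIso_β_unit O h)

lemma isIso_β_of_presentation (hJ : J = ⊥) {Y Z : D} (h : Y ⟶ Z) (M : ModSite.Mod O)
    (P : M.Presentation) : IsIso ((β O h).app M) := by
  have h1 := ev_preservesColimits O hJ Y
  have h2 := bc_preservesColimits O hJ h
  have : PreservesColimitsOfSize.{0, 0} (bc O h) := preservesColimitsOfSize_shrink _
  have : PreservesColimitsOfSize.{0, 0} (ev O Y) := preservesColimitsOfSize_shrink _
  have hc := P.isColimit
  have key : ∀ k, IsIso ((β O h).app ((parallelPair
      ((SheafOfModules.freeHomEquiv _).symm P.relations.s ≫ (kernel.ι _)) 0).obj k)) := by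
    rintro (_ | _)
    · exact isIso_β_free O hJ h _
    · exact isIso_β_free O hJ h _
  have i1 : PreservesColimit (parallelPair
      ((SheafOfModules.freeHomEquiv _).symm P.relations.s ≫ (kernel.ι P.generators.π)) 0) (bc O h) := inferInstance
  have i2 : PreservesColimit (parallelPair
      ((SheafOfModules.freeHomEquiv _).symm P.relations.s ≫ (kernel.ι P.generators.π)) 0) (ev O Y) := inferInstance
  have := @isIso_app_of_isColimit _ _ _ _ _ _ (β O h) _ _ _ _ hc i1 i2 key
  exact this


lemma ev_preservesLimits (Y : D) :
    PreservesLimitsOfSize.{u, u} (ev O Y) :=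
  evaluation_preservesLimits (ModSite.ringSh O) (op Y)


instance ev_additive (Y : D) : (ev O Y).Additive :=
  inferInstanceAs (SheafOfModules.forget.{u} (ModSite.ringSh O) ⋙
    PresheafOfModules.evaluation.{u} (ModSite.ringSh O).obj (op Y)).Additive

instance bc_additive {Y Z : D} (h : Y ⟶ Z) : (bc O h).PreservesZeroMorphisms := by
  have : (ModuleCat.extendScalars.{u, u, u} (rmap O h)).PreservesZeroMorphisms :=
    have := (ModuleCat.extendRestrictScalarsAdj.{u, u, u} (rmap O h)).isLeftAdjoint
    inferInstance
  have := ev_additive O Z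
  infer_instance

lemma sq_apply {R : Type u} [Ring R] {A B C E : ModuleCat.{u} R} {f : A ⟶ B} {g : B ⟶ E}
    {h : A ⟶ C} {k : C ⟶ E} (w : f ≫ g = h ≫ k) (x : A) : g (f x) = k (h x) := by
  have := congr($w x)
  simpa using this

lemma surjective_β_kernel (hJ : J = ⊥) {Y Z : D} (h : Y ⟶ Z) {Fr M : ModSite.Mod O} (π : Fr ⟶ M)
    [Epi π] (h1 : Function.Surjective ((β O h).app Fr))
    (h2 : Function.Injective ((β O h).app M)) :
    Function.Surjective ((β O h).app (kernel π)) := by
  intro x
  have hev := ev_preservesLimits O Y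
  have hbc := bc_preservesColimits O hJ h
  have : PreservesColimitsOfSize.{0, 0} (bc O h) := preservesColimitsOfSize_shrink _
  have : PreservesLimitsOfSize.{0, 0} (ev O Y) := preservesLimitsOfSize_shrink _
  let S := ShortComplex.mk (kernel.ι π) π (kernel.condition π)
  have hS : S.Exact := S.exact_of_f_is_kernel (kernelIsKernel π)
  have hSbc : (S.map (bc O h)).Exact :=
    hS.map_of_epi_of_preservesCokernel (bc O h) (inferInstanceAs (Epi π)) inferInstance
  obtain ⟨y, hy⟩ := h1 ((ev O Y).map (kernel.ι π) x)
  have hy0 : (bc O h).map π y = 0 := by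
    apply h2
    have h3 := sq_apply ((β O h).naturality π) y
    refine h3.trans ?_
    rw [hy]
    have h4 : (ev O Y).map (kernel.ι π) ≫ (ev O Y).map π = 0 := by
      rw [← Functor.map_comp, kernel.condition, Functor.map_zero]
    have h5 := congr($h4 x)
    rw [ModuleCat.comp_apply] at h5
    refine h5.trans ?_
    exact (map_zero _).symm
  obtain ⟨z, hz⟩ := (ShortComplex.moduleCat_exact_iff _).1 hSbc y hy0
  refine ⟨z, ?_⟩
  have hinj : Function.Injective ((ev O Y).map (kernel.ι π)) := by
    rw [← ModuleCat.mono_iff_injective]; infer_instance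
  apply hinj
  have h3 := sq_apply ((β O h).naturality (kernel.ι π)) z
  refine h3.symm.trans ?_
  rw [← hy]
  exact congrArg _ hz

end Beta2

section Terminal

variable {D : Type u} [SmallCategory D] {J : GrothendieckTopology D}
  (O : Sheaf J CommRingCat.{u}) {T : D} (hT : IsTerminal T)

/-- The global section attached to an element over the terminal object. -/
noncomputable def secOf (M : ModSite.Mod O) (m : M.val.obj (op T)) : M.sections :=
  PresheafOfModules.sectionsMk (fun X => M.val.map (hT.from X.unop).op m) (by
    intro X Y f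
    rw [← PresheafOfModules.map_comp_apply]
    exact PresheafOfModules.congr_map_apply _
      (congrArg Quiver.Hom.op (hT.hom_ext (f.unop ≫ hT.from X.unop) (hT.from Y.unop))) m)

/-- If all base change maps from the terminal object are surjective, then the module is generated
by its global sections. -/
noncomputable def genOfSurjective (M : ModSite.Mod O)
    (hM : ∀ Y : D, Function.Surjective ((β O (hT.from Y)).app M)) : M.GeneratingSections where
  I := M.val.obj (op T)
  s := secOf O hT M
  epi := by
    apply epi_of_surjective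
    intro X n
    obtain ⟨z, rfl⟩ := hM X.unop n
    suffices h : ∀ z, (β O (hT.from X.unop)).app M z ∈
        LinearMap.range ((M.freeHomEquiv.symm (secOf O hT M)).val.app X).hom from h z
    intro z
    induction z using TensorProduct.induction_on with
    | zero => erw [map_zero]; exact zero_mem _
    | tmul b m =>
      erw [adj_symm_tmul]
      refine Submodule.smul_mem _ _ ⟨(SheafOfModules.freeSection m).val X, ?_⟩
      exact congrArg (fun s => s.val X)
        (SheafOfModules.sectionsMap_freeHomEquiv_symm_freeSection (secOf O hT M) m)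
    | add x y hx hy => erw [map_add]; exact add_mem hx hy

end Terminal


section Main

variable {D : Type u} [SmallCategory D] {J : GrothendieckTopology D}
  (O : Sheaf J CommRingCat.{u}) {T : D} (hT : IsTerminal T)

/-- If all base change maps from the terminal object are isomorphisms, the module has a global
presentation. -/
noncomputable def presentationOfIsIso (hJ : J = ⊥) (M : ModSite.Mod O)
    (hM : ∀ Y : D, IsIso ((β O (hT.from Y)).app M)) : M.Presentation where
  generators := genOfSurjective O hT M
    (fun Y => ((ConcreteCategory.isIso_iff_bijective _).1 (hM Y)).2)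
  relations := genOfSurjective O hT _ (fun Y => by
    refine surjective_β_kernel O hJ (hT.from Y) _ ?_ ?_
    · exact ((ConcreteCategory.isIso_iff_bijective _).1 (isIso_β_free O hJ (hT.from Y) _)).2
    · exact ((ConcreteCategory.isIso_iff_bijective _).1 (hM Y)).1)

lemma over_bot {C : Type u} [Category.{u} C] (X : C) :
    (⊥ : GrothendieckTopology C).over X = ⊥ := by
  ext Y S
  rw [GrothendieckTopology.mem_over_iff, GrothendieckTopology.bot_covering,
    GrothendieckTopology.bot_covering, map_eq_top_iff]

end Main

section Serre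

variable {D : Type u} [SmallCategory D] {J : GrothendieckTopology D}
  (O : Sheaf J CommRingCat.{u})

lemma bc_preservesFiniteLimits {Y Z : D} (h : Y ⟶ Z) (hf : (rmap O h).Flat) :
    PreservesFiniteLimits (bc O h) := by
  have := ev_preservesLimits O Z
  have : PreservesFiniteLimits (ev O Z) := PreservesLimitsOfSize.preservesFiniteLimits _
  have : PreservesFiniteLimits (ModuleCat.extendScalars.{u, u, u} (rmap O h)) :=
    ModuleCat.preservesFiniteLimits_extendScalars_of_flat hf
  exact comp_preservesFiniteLimits _ _

lemma isIso_β_kernel {Y Z : D} (h : Y ⟶ Z) (hf : (rmap O h).Flat) {F G : ModSite.Mod O}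
    (α : F ⟶ G) (hF : IsIso ((β O h).app F)) (hG : IsIso ((β O h).app G)) :
    IsIso ((β O h).app (kernel α)) := by
  have := bc_preservesFiniteLimits O h hf
  have := ev_preservesLimits O Y
  have : PreservesLimitsOfSize.{0, 0} (ev O Y) := preservesLimitsOfSize_shrink _
  have key : ∀ k, IsIso ((β O h).app ((parallelPair α 0).obj k)) := by
    rintro (_ | _)
    · exact hF
    · exact hG
  have i1 : PreservesLimit (parallelPair α 0) (bc O h) := inferInstance
  have i2 : PreservesLimit (parallelPair α 0) (ev O Y) := inferInstance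
  have := @isIso_app_of_isLimit _ _ _ _ _ _ (β O h) _ _ _ _ (kernelIsKernel α) i1 i2 key
  exact this

lemma isIso_β_cokernel (hJ : J = ⊥) {Y Z : D} (h : Y ⟶ Z) {F G : ModSite.Mod O}
    (α : F ⟶ G) (hF : IsIso ((β O h).app F)) (hG : IsIso ((β O h).app G)) :
    IsIso ((β O h).app (cokernel α)) := by
  have h1 := ev_preservesColimits O hJ Y
  have h2 := bc_preservesColimits O hJ h
  have : PreservesColimitsOfSize.{0, 0} (bc O h) := preservesColimitsOfSize_shrink _
  have : PreservesColimitsOfSize.{0, 0} (ev O Y) := preservesColimitsOfSize_shrink _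
  have key : ∀ k, IsIso ((β O h).app ((parallelPair α 0).obj k)) := by
    rintro (_ | _)
    · exact hF
    · exact hG
  have i1 : PreservesColimit (parallelPair α 0) (bc O h) := inferInstance
  have i2 : PreservesColimit (parallelPair α 0) (ev O Y) := inferInstance
  have := @isIso_app_of_isColimit _ _ _ _ _ _ (β O h) _ _ _ _ (cokernelIsCokernel α) i1 i2 key
  exact this

lemma isIso_β_extension (hJ : J = ⊥) {Y Z : D} (h : Y ⟶ Z) (hf : (rmap O h).Flat)
    (S : ShortComplex (ModSite.Mod O)) (hS : S.ShortExact)
    (h₁ : IsIso ((β O h).app S.X₁)) (h₃ : IsIso ((β O h).app S.X₃)) :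
    IsIso ((β O h).app S.X₂) := by
  have := bc_preservesFiniteLimits O h hf
  have := ev_preservesLimits O Y
  have : PreservesFiniteLimits (ev O Y) := PreservesLimitsOfSize.preservesFiniteLimits _
  have h1 := ev_preservesColimits O hJ Y
  have h2 := bc_preservesColimits O hJ h
  have : PreservesFiniteColimits (ev O Y) := PreservesColimitsOfSize.preservesFiniteColimits _
  have : PreservesFiniteColimits (bc O h) := PreservesColimitsOfSize.preservesFiniteColimits _
  have e1 : (S.map (bc O h)).ShortExact := hS.map_of_exact (bc O h)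
  have e2 : (S.map (ev O Y)).ShortExact := hS.map_of_exact (ev O Y)
  exact ShortComplex.isIso₂_of_shortExact_of_isIso₁₃' (S.mapNatTrans (β O h)) e1 e2 h₁ h₃

end Serre

end Groth.Agent.Lib.Helper2.Chaotic
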